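import Cfsg.Agent.H806.Bs.TvSp
import Cfsg.Agent.H743.TvGen
import Cfsg.Agent.H847.Bs.Defs2

/-!
# Irreducible groups containing full transvection groups (helper806, task BS30 of S5733), part 1

`H ≤ GL(V)` irreducible containing a full transvection group; `Tv H a φ` : all `x ↦ x + c φ x • a` lie in `H`.

* `ni_of_irr` : no isolated centres;
* `Wcp H a` : the span of the component of `a`; `blk` : if it is not `V`, it is a block.
-/

set_option autoImplicit false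
set_option linter.unusedSectionVars false

namespace Cfsg.Agent.H806.Bs

open Module Cfsg.Agent.H847.Bs Cfsg.Agent.H806.Bs.McL

variable {F V : Type*} [Field F] [AddCommGroup V] [Module F V] {H : Subgroup (V ≃ₗ[F] V)}

/-- `Y` is invariant under the full transvection groups of `H`. -/
def RInv (H : Subgroup (V ≃ₗ[F] V)) (Y : Submodule F V) : Prop :=
  ∀ a φ, Tv H a φ → ∀ y ∈ Y, φ y • a ∈ Y

theorem RInv.map {Y : Submodule F V} (hY : RInv H Y) {h : V ≃ₗ[F] V} (hh : h ∈ H) :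
    RInv H (Y.map (h : V →ₗ[F] V)) := by
  rintro a φ hT _ ⟨y, hy, rfl⟩
  have h1 := hT.conj (H.inv_mem hh)
  refine ⟨_, hY _ _ h1 y hy, ?_⟩
  change h ((φ ∘ₗ ((h⁻¹ : V ≃ₗ[F] V).symm : V →ₗ[F] V)) y • (h⁻¹ : V ≃ₗ[F] V) a) = _
  rw [map_smul]
  congr 1
  exact h.apply_symm_apply a

/-- The sum of the translates of a nonzero subspace is everything. -/
theorem sSup_eq_top (hI : IrrG H) {Y : Submodule F V} (hY : Y ≠ ⊥) :
    sSup {Z : Submodule F V | ∃ h ∈ H, Z = Y.map (h : V →ₗ[F] V)} = ⊤ := by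
  set S := {Z : Submodule F V | ∃ h ∈ H, Z = Y.map (h : V →ₗ[F] V)} with hS
  have h1 : ∀ h ∈ H, Inv h (sSup S) := by
    intro h hh v hv
    have h2 : (sSup S) ≤ (sSup S).comap (h : V →ₗ[F] V) := by
      refine sSup_le ?_
      rintro Z ⟨g, hg, rfl⟩
      rintro _ ⟨y, hy, rfl⟩
      have h3 : Y.map ((h * g : V ≃ₗ[F] V) : V →ₗ[F] V) ≤ sSup S := le_sSup ⟨h * g, H.mul_mem hh hg, rfl⟩
      exact h3 ⟨y, hy, rfl⟩
    exact h2 hv
  rcases hI _ h1 with h2 | h2
  · exfalso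
    apply hY
    rw [eq_bot_iff, ← h2]
    refine le_sSup ⟨1, H.one_mem, ?_⟩
    ext v
    constructor
    · intro hv; exact ⟨v, hv, rfl⟩
    · rintro ⟨w, hw, rfl⟩; exact hw
  · exact h2

/-- A functional vanishing on all translates vanishes. -/
theorem exists_ne_of_sSup (hI : IrrG H) {Y : Submodule F V} (hY : Y ≠ ⊥) {φ : Dual F V} (hφ : φ ≠ 0) :
    ∃ h ∈ H, ∃ y ∈ Y.map (h : V →ₗ[F] V), φ y ≠ 0 := by
  by_contra hcon
  push Not at hcon
  apply hφ
  have h1 : sSup {Z : Submodule F V | ∃ h ∈ H, Z = Y.map (h : V →ₗ[F] V)} ≤ LinearMap.ker φ := by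
    refine sSup_le ?_
    rintro Z ⟨g, hg, rfl⟩ y hy
    exact hcon g hg y hy
  rw [sSup_eq_top hI hY, top_le_iff, LinearMap.ker_eq_top] at h1
  exact h1

/-- The common kernel is zero. -/
theorem common_ker (hI : IrrG H) {a₀ : V} {φ₀ : Dual F V} (h0 : Tv H a₀ φ₀) (ha : a₀ ≠ 0) (hφ : φ₀ ≠ 0)
    {x : V} (hx : ∀ a φ, a ≠ 0 → φ ≠ 0 → Tv H a φ → φ x = 0) : x = 0 := by
  let Y : Submodule F V :=
    { carrier := {x | ∀ a φ, a ≠ 0 → φ ≠ 0 → Tv H a φ → φ x = 0}
      add_mem' := fun {x y} h1 h2 a φ ha hp hT => by rw [map_add, h1 a φ ha hp hT, h2 a φ ha hp hT, add_zero]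
      zero_mem' := fun a φ _ _ _ => map_zero φ
      smul_mem' := fun c x h1 a φ ha hp hT => by rw [map_smul, h1 a φ ha hp hT, smul_zero] }
  have h1 : ∀ h ∈ H, Inv h Y := by
    intro h hh v hv a φ ha hp hT
    have h2 := hT.conj (H.inv_mem hh)
    refine hv _ _ ?_ ?_ h2
    · intro h3
      exact ha ((h⁻¹ : V ≃ₗ[F] V).map_eq_zero_iff.1 h3)
    · intro h3
      apply hp
      ext w
      have h4 := LinearMap.congr_fun h3 ((h⁻¹ : V ≃ₗ[F] V) w)
      change φ ((h⁻¹ : V ≃ₗ[F] V).symm ((h⁻¹ : V ≃ₗ[F] V) w)) = 0 at h4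
      rw [LinearEquiv.symm_apply_apply] at h4
      rw [h4]; rfl
  rcases hI Y h1 with h2 | h2
  · have h3 : x ∈ Y := hx
    rw [h2] at h3
    exact (Submodule.mem_bot F).1 h3
  · exfalso
    apply hφ
    ext w
    have h3 : w ∈ Y := by rw [h2]; trivial
    rw [h3 a₀ φ₀ ha hφ h0]; rfl

/-- The submodule generated by the centres which do not commute with the centre `a`. -/
def Ma (H : Subgroup (V ≃ₗ[F] V)) (a : V) : Submodule F V :=
  Submodule.span F {c | ∃ χ, Tv H c χ ∧ (χ : Dual F V) a ≠ 0}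

theorem rinv_Ma (a : V) : RInv H (Ma H a) := by
  intro d η hT y hy
  have key : ∀ c ∈ {c | ∃ χ, Tv H c χ ∧ (χ : Dual F V) a ≠ 0}, η c • d ∈ Ma H a := by
    rintro c ⟨χ, h1, h2⟩
    by_cases h3 : η a = 0
    · have h4 := (full H).conj_tv hT h1 1
      rw [one_mul, one_mul] at h4
      have h5 : c + η c • d ∈ Ma H a := Submodule.subset_span ⟨_, h4, by simp [h3, h2]⟩
      have h6 : c ∈ Ma H a := Submodule.subset_span ⟨χ, h1, h2⟩
      have := Submodule.sub_mem _ h5 h6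
      rwa [add_sub_cancel_left] at this
    · exact Submodule.smul_mem _ _ (Submodule.subset_span ⟨η, hT, h3⟩)
  refine Submodule.span_induction (p := fun y _ => η y • d ∈ Ma H a) ?_ ?_ ?_ ?_ hy
  · exact key
  · rw [map_zero, zero_smul]; exact Submodule.zero_mem _
  · intro y z _ _ h1 h2
    rw [map_add, add_smul]; exact Submodule.add_mem _ h1 h2
  · intro c y _ h1
    rw [map_smul, smul_eq_mul, mul_smul]; exact Submodule.smul_mem _ _ h1

/-- **No isolated centres.** -/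
theorem ni_of_irr [FiniteDimensional F V] (hI : IrrG H) : NI H := by
  intro a φ hT ha hφ
  obtain ⟨M, ⟨hM1, hM2⟩, hmin⟩ : ∃ M : Submodule F V, (M ≠ ⊥ ∧ RInv H M) ∧
      ∀ Y : Submodule F V, (Y ≠ ⊥ ∧ RInv H Y) → Y ≤ M → Y = M := by
    have hwf : WellFounded (fun Y Z : Submodule F V => Y < Z) := wellFounded_lt
    have hne : {Y : Submodule F V | Y ≠ ⊥ ∧ RInv H Y}.Nonempty :=
      ⟨⊤, fun h => ha ((Submodule.mem_bot F).1 (h ▸ (trivial : a ∈ (⊤ : Submodule F V)))),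
        fun _ _ _ _ _ => trivial⟩
    refine ⟨hwf.min _ hne, hwf.min_mem _ hne, fun Y hY hle => ?_⟩
    by_contra h1
    exact hwf.not_lt_min _ hY (lt_of_le_of_ne hle h1)
  obtain ⟨h, hh, y, hy, hφy⟩ := exists_ne_of_sSup hI hM1 hφ
  set S := M.map (h : V →ₗ[F] V) with hS
  have hSR : RInv H S := hM2.map hh
  have haS : a ∈ S := by
    have h1 := hSR a φ hT y hy
    have h2 := S.smul_mem (φ y)⁻¹ h1
    rwa [smul_smul, inv_mul_cancel₀ hφy, one_smul] at h2
  have hle : Ma H a ≤ S := by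
    refine Submodule.span_le.2 ?_
    rintro c ⟨χ, h1, h2⟩
    have h3 := hSR c χ h1 a haS
    have h4 := S.smul_mem (χ a)⁻¹ h3
    rwa [smul_smul, inv_mul_cancel₀ h2, one_smul] at h4
  have hne : Ma H a ≠ ⊥ := by
    intro h0
    obtain ⟨c, χ, hc, hχ, h1, h2⟩ : ∃ c χ, c ≠ 0 ∧ χ ≠ 0 ∧ Tv H c χ ∧ (χ : Dual F V) a ≠ 0 := by
      by_contra hcon
      push Not at hcon
      exact ha (common_ker hI hT ha hφ fun c χ h1 h2 h3 => hcon c χ h1 h2 h3)
    have h3 : c ∈ Ma H a := Submodule.subset_span ⟨χ, h1, h2⟩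
    rw [h0] at h3
    exact hc ((Submodule.mem_bot F).1 h3)
  have heq : Ma H a = S := by
    have h1 : (Ma H a).map ((h⁻¹ : V ≃ₗ[F] V) : V →ₗ[F] V) = M := by
      refine hmin _ ⟨?_, (rinv_Ma a).map (H.inv_mem hh)⟩ ?_
      · intro h0
        apply hne
        rw [Submodule.eq_bot_iff]
        intro c hc
        have h2 : (h⁻¹ : V ≃ₗ[F] V) c ∈ (Ma H a).map ((h⁻¹ : V ≃ₗ[F] V) : V →ₗ[F] V) := ⟨c, hc, rfl⟩
        rw [h0, Submodule.mem_bot] at h2
        exact (h⁻¹ : V ≃ₗ[F] V).map_eq_zero_iff.1 h2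
      · rintro _ ⟨c, hc, rfl⟩
        obtain ⟨m, hm, rfl⟩ := hle hc
        change h.symm (h m) ∈ M
        rwa [LinearEquiv.symm_apply_apply]
    rw [hS, ← h1]
    ext v
    constructor
    · intro hv
      exact ⟨h.symm v, ⟨v, hv, rfl⟩, h.apply_symm_apply v⟩
    · rintro ⟨_, ⟨w, hw, rfl⟩, rfl⟩
      change h (h.symm w) ∈ _
      rwa [LinearEquiv.apply_symm_apply]
  by_contra hcon
  push Not at hcon
  apply hφy
  rw [← heq] at hy
  refine Submodule.span_induction (p := fun y _ => φ y = 0) ?_ ?_ ?_ ?_ hy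
  · rintro c ⟨χ, h1, h2⟩
    by_contra h3
    exact h2 (hcon c χ h1 h3)
  · exact map_zero φ
  · intro y z _ _ h1 h2
    rw [map_add, h1, h2, add_zero]
  · intro c y _ h1
    rw [map_smul, h1, smul_zero]

/-! ### Components -/

theorem Rel.map {a b : V} (h : Rel H a b) {g : V ≃ₗ[F] V} (hg : g ∈ H) : Rel H (g a) (g b) := by
  obtain ⟨φ, ψ, h1, h2, h3, h4⟩ := h
  refine ⟨_, _, h1.conj hg, h2.conj hg, ?_, ?_⟩
  · change φ (g.symm (g b)) ≠ 0
    rwa [LinearEquiv.symm_apply_apply]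
  · change ψ (g.symm (g a)) ≠ 0
    rwa [LinearEquiv.symm_apply_apply]

theorem Cmp.map {a b : V} (h : Cmp H a b) {g : V ≃ₗ[F] V} (hg : g ∈ H) : Cmp H (g a) (g b) := by
  induction h with
  | refl => exact Cmp.refl _
  | tail _ h2 ih => exact Relation.ReflTransGen.tail ih (Rel.map h2 hg)

/-- The span of the component of `a`. -/
def Wcp (H : Subgroup (V ≃ₗ[F] V)) (a : V) : Submodule F V := Submodule.span F {x | Cmp H a x}

theorem Wcp_congr {a b : V} (h : Cmp H a b) : Wcp H a = Wcp H b := by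
  unfold Wcp
  congr 1
  ext x
  exact ⟨fun h1 => h.symm.trans h1, fun h1 => h.trans h1⟩

theorem Wcp_map (a : V) {g : V ≃ₗ[F] V} (hg : g ∈ H) : (Wcp H a).map (g : V →ₗ[F] V) = Wcp H (g a) := by
  unfold Wcp
  rw [Submodule.map_span]
  congr 1
  ext x
  constructor
  · rintro ⟨y, hy, rfl⟩
    exact Cmp.map hy hg
  · intro hx
    refine ⟨g⁻¹ x, ?_, g.apply_symm_apply x⟩
    have := Cmp.map hx (H.inv_mem hg)
    rwa [show (g⁻¹ : V ≃ₗ[F] V) (g a) = a from g.symm_apply_apply a] at this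

/-- The functionals of a centre outside of the component of `b` vanish on the span of this component. -/
theorem vanish_Wcp [FiniteDimensional F V] (hN : NI H) {b c : V} (hb : Ctr H b) (hc : c ≠ 0) {χ : Dual F V}
    (hT : Tv H c χ) (h : ¬ Cmp H b c) : ∀ x ∈ Wcp H b, χ x = 0 := by
  intro x hx
  refine Submodule.span_induction (p := fun y _ => χ y = 0) ?_ ?_ ?_ ?_ hx
  · intro y hy
    by_contra h1
    obtain ⟨z, φ, ψ, k1, k2, k3, k4⟩ := hb.of_cmp hy
    have h2 : Cmp H c y := cmp_of_np (full H) hN hc k1 (fun h0 => k3 (by rw [h0]; rfl)) ⟨χ, hT, h1⟩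
    exact h (Cmp.trans hy h2.symm)
  · exact map_zero χ
  · intro y z _ _ h1 h2
    rw [map_add, h1, h2, add_zero]
  · intro c y _ h1
    rw [map_smul, h1, smul_zero]

theorem Ctr.map {a : V} (h : Ctr H a) {g : V ≃ₗ[F] V} (hg : g ∈ H) : Ctr H (g a) := by
  obtain ⟨b, hb⟩ := h
  exact ⟨_, Rel.map hb hg⟩

/-- **The components are blocks.** -/
theorem blk [FiniteDimensional F V] (hI : IrrG H) {a : V} (ha : Ctr H a) (hne : Wcp H a ≠ ⊤) :
    BlkL H (Wcp H a) := by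
  have hN := ni_of_irr hI
  have ha0 : a ∈ Wcp H a := Submodule.subset_span (Cmp.refl a)
  have hbot : Wcp H a ≠ ⊥ := by
    intro h0
    rw [h0] at ha0
    exact ha.ne_zero ((Submodule.mem_bot F).1 ha0)
  refine ⟨hne, ?_, sSup_eq_top hI hbot⟩
  rintro Y ⟨h, hh, rfl⟩
  rw [Wcp_map a hh]
  set b := h a with hb
  have hbc : Ctr H b := Ctr.map ha hh
  rw [Submodule.disjoint_def]
  intro x hx1 hx2
  obtain ⟨e, φ, ψ, k1, k2, k3, k4⟩ := id ha
  refine common_ker hI k1 ha.ne_zero (fun h0 => k3 (by rw [h0]; rfl)) fun c χ hc hχ hT => ?_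
  by_cases hbcc : Cmp H b c
  · have h3 : sSup ({Z : Submodule F V | ∃ h ∈ H, Z = (Wcp H a).map (h : V →ₗ[F] V)} \ {Wcp H b}) ≤
        LinearMap.ker χ := by
      refine sSup_le ?_
      rintro Z ⟨⟨g, hg, rfl⟩, hZ⟩ y hy
      rw [Wcp_map a hg] at hZ hy
      refine vanish_Wcp hN (Ctr.map ha hg) hc hT (fun h4 => hZ ?_) y hy
      rw [Set.mem_singleton_iff]
      exact (Wcp_congr h4).trans (Wcp_congr hbcc).symm
    exact h3 hx2
  · exact vanish_Wcp hN hbc hc hT hbcc x hx1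

end Cfsg.Agent.H806.Bs
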