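import Cfsg.Agent.H806.Bs.GenA

/-!
# Irreducible groups containing full transvection groups (helper806, task BS30 of S5733), part 2

* `exists_fun` : the skew-symmetric normalisation of the functionals in a component with `dim Phi = 1` (all fields);
* `sp_of_one` : if the component spans `V`, then `H` preserves a symplectic form up to scalars;
* `sl_of_two` : `dim Phi ≥ 2` and the component spans `V`: `SL(V) ≤ H`;
* `gen_sl` : BS30.
-/

set_option autoImplicit false
set_option linter.unusedSectionVars false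

namespace Cfsg.Agent.H806.Bs

open Module Cfsg.Agent.H847.Bs Cfsg.Agent.H806.Bs.McL

variable {F V : Type*} [Field F] [AddCommGroup V] [Module F V] {H : Subgroup (V ≃ₗ[F] V)}

theorem eq_smul_one {a x : V} (h1 : finrank F (Phi (full H) a) = 1) (hx : Cmp H a x) {φ ψ : Dual F V}
    (hφ : Tv H x φ) (h0 : φ ≠ 0) (hψ : Tv H x ψ) : ∃ μ : F, ψ = μ • φ := by
  have h4 : finrank F (Phi (full H) x) = 1 := by rw [← hx.finrank_eq (full H), h1]
  obtain ⟨μ, hμ⟩ := (finrank_eq_one_iff_of_nonzero' (⟨φ, hφ⟩ : Phi (full H) x)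
    (fun h0' => h0 (congrArg Subtype.val h0'))).1 h4 ⟨ψ, hψ⟩
  exact ⟨μ, (congrArg Subtype.val hμ).symm⟩

/-- The skew-symmetric normalisation. -/
theorem exists_fun [FiniteDimensional F V] {a : V} (ha : Ctr H a) (h1 : finrank F (Phi (full H) a) = 1) :
    ∃ f : V → Dual F V, (∀ x, Cmp H a x → Tv H x (f x) ∧ f x ≠ 0) ∧
      ∀ x y, Cmp H a x → Cmp H a y → f x y = - f y x := by
  by_cases hbig : ∃ c : F, c ≠ 0 ∧ c ≠ 1
  · exact SpH.exists_form (hF := full H) ⟨ha, h1, hbig⟩
  · push Not at hbig
    have h01 : ∀ c : F, c = 0 ∨ c = 1 := fun c => or_iff_not_imp_left.2 (hbig c)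
    have hneg : (-1 : F) = 1 := (h01 (-1)).resolve_left (neg_ne_zero.2 one_ne_zero)
    have hex : ∀ x, ∃ φ : Dual F V, Cmp H a x → Tv H x φ ∧ φ ≠ 0 := by
      intro x
      by_cases hx : Cmp H a x
      · obtain ⟨b, φ, ψ, k1, k2, k3, k4⟩ := ha.of_cmp hx
        exact ⟨φ, fun _ => ⟨k1, fun h0 => k3 (by rw [h0]; rfl)⟩⟩
      · exact ⟨0, fun h => absurd h hx⟩
    choose f hf using hex
    refine ⟨f, hf, ?_⟩
    have key : ∀ x y, Cmp H a x → Cmp H a y → f x y ≠ 0 → f y x ≠ 0 := by
      intro x y hx hy h0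
      obtain ⟨φ, k1, k2⟩ := Cmp.np_symm (full H) (Cmp.trans hx.symm hy) ⟨f x, (hf x hx).1, h0⟩
      obtain ⟨μ, rfl⟩ := eq_smul_one h1 hy (hf y hy).1 (hf y hy).2 k1
      intro h3
      exact k2 (by rw [LinearMap.smul_apply, h3, smul_zero])
    intro x y hx hy
    have e : - f y x = f y x := by
      rw [← neg_one_mul, hneg, one_mul]
    rw [e]
    rcases h01 (f x y) with h2 | h2 <;> rcases h01 (f y x) with h3 | h3
    · rw [h2, h3]
    · exact absurd h2 (key y x hy hx (by rw [h3]; exact one_ne_zero))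
    · exact absurd h3 (key x y hx hy (by rw [h2]; exact one_ne_zero))
    · rw [h2, h3]

/-- If all functionals vanish... a property of vectors which holds on a component spanning `V` and is linear. -/
theorem ind_top {a : V} (htop : Wcp H a = ⊤) {p : V → Prop} (h1 : ∀ x, Cmp H a x → p x) (h0 : p 0)
    (hadd : ∀ x y, p x → p y → p (x + y)) (hsmul : ∀ (c : F) x, p x → p (c • x)) (x : V) : p x := by
  have hx : x ∈ Wcp H a := by rw [htop]; trivial
  exact Submodule.span_induction (p := fun y _ => p y) (fun y hy => h1 y hy) h0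
    (fun y z _ _ h2 h3 => hadd y z h2 h3) (fun c y _ h2 => hsmul c y h2) hx

/-- If the component of `a` spans `V`, it contains all centres. -/
theorem cmp_of_top [FiniteDimensional F V] (hN : NI H) {a : V} (ha : Ctr H a) (htop : Wcp H a = ⊤) {c : V}
    {χ : Dual F V} (hc : c ≠ 0) (hχ : χ ≠ 0) (hT : Tv H c χ) : Cmp H a c := by
  by_contra h
  apply hχ
  ext x
  exact vanish_Wcp hN ha hc hT h x (by rw [htop]; trivial)

/-- **The symplectic case.** -/
theorem sp_of_one [FiniteDimensional F V] (hI : IrrG H) {a : V} (ha : Ctr H a)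
    (h1 : finrank F (Phi (full H) a) = 1) (htop : Wcp H a = ⊤) :
    ∃ Φ : Cfsg.Agent.H847.Bs.Frm F V, IsSp Φ ∧ ∀ h ∈ H, ∃ μ : F, ∀ x y, Φ.B (h x) (h y) = μ * Φ.B x y := by
  have hN := ni_of_irr hI
  obtain ⟨f, hf, hskew⟩ := exists_fun ha h1
  -- the linear extension
  obtain ⟨B, hB⟩ : ∃ B : V →ₗ[F] Dual F V, ∀ x, Cmp H a x → B x = f x := by
    obtain ⟨s, hs1, hs2, hs3⟩ := exists_linearIndependent F {x | Cmp H a x}
    let b : Basis s F V := Basis.mk hs3 (by
      rw [Subtype.range_coe, hs2]
      exact htop.ge)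
    have hb : ∀ i : s, b i = i := fun i => by rw [Basis.mk_apply]
    let B : V →ₗ[F] Dual F V := b.constr F fun i : s => f i
    have hBi : ∀ i : s, B i = f i := fun i => by
      have := b.constr_basis F (fun i : s => f i) i
      rwa [hb] at this
    refine ⟨B, fun x hx => ?_⟩
    -- both sides agree on the centres
    have key : ∀ y, Cmp H a y → ∀ z, B z y = - f y z := by
      intro y hy z
      have h2 : (LinearMap.applyₗ y : Dual F V →ₗ[F] F) ∘ₗ B = - f y := by
        refine b.ext fun i => ?_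
        rw [hb]
        change B i y = - f y i
        rw [hBi, hskew _ _ (hs1 i.2) hy]
      exact LinearMap.congr_fun h2 z
    ext y
    refine ind_top (p := fun y => B x y = f x y) htop (fun y hy => ?_) ?_ ?_ ?_ y
    · rw [key y hy, hskew x y hx hy]
    · rw [map_zero, map_zero]
    · intro y z h2 h3
      rw [map_add, map_add, h2, h3]
    · intro c y h2
      rw [map_smul, map_smul, h2]
  have hsk : ∀ x y, B x y = - B y x := by
    intro x y
    refine ind_top (p := fun x => B x y = - B y x) htop (fun x hx => ?_) ?_ ?_ ?_ x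
    · refine ind_top (p := fun y => B x y = - B y x) htop (fun y hy => ?_) ?_ ?_ ?_ y
      · rw [hB x hx, hB y hy, hskew x y hx hy]
      · simp
      · intro y z h2 h3
        rw [map_add, map_add, h2, h3, LinearMap.add_apply]; ring
      · intro c y h2
        rw [map_smul, map_smul, h2, LinearMap.smul_apply, smul_eq_mul, smul_eq_mul]; ring
    · simp
    · intro x z h2 h3
      rw [map_add, map_add, LinearMap.add_apply, h2, h3]; ring
    · intro c x h2
      rw [map_smul, map_smul, LinearMap.smul_apply, h2, smul_eq_mul, smul_eq_mul]; ring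
  have halt : ∀ x, B x x = 0 := by
    intro x
    refine ind_top (p := fun x => B x x = 0) htop (fun x hx => ?_) ?_ ?_ ?_ x
    · rw [hB x hx]; exact (hf x hx).1.1
    · simp
    · intro x y h2 h3
      rw [map_add, map_add, LinearMap.add_apply, LinearMap.add_apply, h2, h3, hsk x y]; ring
    · intro c x h2
      rw [map_smul, map_smul, LinearMap.smul_apply, h2, smul_zero, smul_zero]
  obtain ⟨e, φ₀, ψ₀, k1, k2, k3, k4⟩ := id ha
  have hφ₀ : φ₀ ≠ 0 := fun h0 => k3 (by rw [h0]; rfl)
  have hnd : ∀ x, (∀ y, B x y = 0) → x = 0 := by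
    intro x hx
    refine common_ker hI k1 ha.ne_zero hφ₀ fun c χ hc hχ hT => ?_
    have hcc := cmp_of_top hN ha htop hc hχ hT
    obtain ⟨μ, rfl⟩ := eq_smul_one h1 hcc (hf c hcc).1 (hf c hcc).2 hT
    rw [LinearMap.smul_apply, ← hB c hcc, hsk c x, hx c, neg_zero, smul_zero]
  refine ⟨{ B := fun x y => B x y, q := fun _ => 0, s := fun c => c,
            add_left := fun x y z => by rw [map_add]; rfl
            add_right := fun x y z => by rw [map_add]
            smul_left := fun c x y => by rw [map_smul]; rfl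
            smul_right := fun c x y => by rw [map_smul]; rfl
            refl := fun x y h => by rw [hsk, h, neg_zero]
            q_add := fun x y _ => by rw [add_zero] },
    ⟨hnd, fun _ => rfl, fun _ => rfl, halt⟩, fun h hh => ?_⟩
  -- similitudes
  have hloc : ∀ x, Cmp H a x → Cmp H a (h x) ∧ ∃ μ : F, ∀ z, B (h x) (h z) = μ * B x z := by
    intro x hx
    have h2 := (hf x hx).1.conj hh
    have h3 : Cmp H a (h x) := by
      refine cmp_of_top hN ha htop ?_ ?_ h2
      · intro h0
        exact (ha.of_cmp hx).ne_zero (h.map_eq_zero_iff.1 h0)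
      · intro h0
        apply (hf x hx).2
        ext z
        have h4 := LinearMap.congr_fun h0 (h z)
        change f x (h.symm (h z)) = 0 at h4
        rwa [LinearEquiv.symm_apply_apply] at h4
    refine ⟨h3, ?_⟩
    obtain ⟨μ, hμ⟩ := eq_smul_one h1 h3 h2 (fun h0 => by
      apply (hf x hx).2
      ext z
      have h4 := LinearMap.congr_fun h0 (h z)
      change f x (h.symm (h z)) = 0 at h4
      rwa [LinearEquiv.symm_apply_apply] at h4) (hf _ h3).1
    refine ⟨μ, fun z => ?_⟩
    rw [hB _ h3, hμ, LinearMap.smul_apply, hB x hx]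
    change μ • f x (h.symm (h z)) = _
    rw [LinearEquiv.symm_apply_apply, smul_eq_mul]
  obtain ⟨-, μ, hμ⟩ := hloc a (Cmp.refl a)
  have hall : ∀ x, Cmp H a x → ∀ z, B (h x) (h z) = μ * B x z := by
    intro x hx
    induction hx with
    | refl => exact hμ
    | @tail x y hx hxy ih =>
      have hy : Cmp H a y := Cmp.trans hx hxy.cmp
      obtain ⟨-, ν, hν⟩ := hloc y hy
      obtain ⟨φ, ψ, j1, j2, j3, j4⟩ := hxy
      obtain ⟨l, rfl⟩ := eq_smul_one h1 hx (hf x hx).1 (hf x hx).2 j1
      have h2 : B x y ≠ 0 := by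
        rw [hB x hx]
        intro h0
        exact j3 (by rw [LinearMap.smul_apply, h0, smul_zero])
      have h3 : ν * B y x = μ * B y x := by
        rw [← hν x, hsk (h y) (h x), ih y, hsk y x]; ring
      have h4 : B y x ≠ 0 := by rw [hsk]; exact neg_ne_zero.2 h2
      rw [mul_right_cancel₀ h4 h3] at hν
      exact hν
  refine ⟨μ, fun x y => ?_⟩
  change B (h x) (h y) = μ * B x y
  refine ind_top (p := fun x => B (h x) (h y) = μ * B x y) htop (fun x hx => hall x hx y) ?_ ?_ ?_ x
  · simp
  · intro x z h2 h3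
    rw [map_add, map_add, LinearMap.add_apply, h2, h3, map_add, LinearMap.add_apply]; ring
  · intro c x h2
    rw [map_smul, map_smul, LinearMap.smul_apply, h2, map_smul, LinearMap.smul_apply, smul_eq_mul, smul_eq_mul]; ring

/-- **The linear case.** -/
theorem sl_of_two [FiniteDimensional F V] (hI : IrrG H) {a : V} (ha : Ctr H a)
    (h2 : 2 ≤ finrank F (Phi (full H) a)) (htop : Wcp H a = ⊤) (hV : 2 ≤ finrank F V) : slV F V ≤ H := by
  have hN := ni_of_irr hI
  have hA := addC_of_two_le (full H) hN ha h2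
  have hW : WW (full H) ha hA = ⊤ := by
    rw [eq_top_iff, ← htop]
    exact Submodule.span_le.2 fun x hx => Or.inr hx
  intro g hg
  refine Cfsg.Agent.H743.McL.mem_of_det_eq_one hV H ?_ g hg
  intro x φ hx
  by_cases hx0 : x = 0
  · exact ⟨1, H.one_mem, fun y => by rw [hx0, smul_zero, add_zero]; rfl⟩
  · have hxW : x ∈ WW (full H) ha hA := by rw [hW]; trivial
    have hxc : Cmp H a x := hxW.resolve_left hx0
    obtain ⟨ψ, k1, k2⟩ := sl_exists (full H) hN ha h2 hxc (φ.domRestrict _) hx
    have h3 : ψ = φ := by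
      ext w
      exact k2 ⟨w, by rw [hW]; trivial⟩
    rw [← h3]
    exact k1.elt.2

/-- **BS30.** An irreducible subgroup of `GL(V)` containing `SL(W)` (`dim W = 2`, trivial on a complement). -/
theorem gen_sl [FiniteDimensional F V] (hI : IrrG H) {W U : Submodule F V} (hc : IsCompl W U)
    (hW : finrank F W = 2) (hon : HasOn (slV F V) H W U) :
    slV F V ≤ H ∨ (∃ D : Submodule F V, BlkL H D ∧ 2 ≤ finrank F D) ∨
      ∃ Φ : Cfsg.Agent.H847.Bs.Frm F V, IsSp Φ ∧ ∀ h ∈ H, ∃ μ : F, ∀ x y, Φ.B (h x) (h y) = μ * Φ.B x y := by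
  -- the transvections of `W`
  have hT : ∀ (w : V) (φ : Dual F V), w ∈ W → (∀ u ∈ U, φ u = 0) → φ w = 0 → Tv H w φ := by
    intro w φ hw hU h0
    refine ⟨h0, fun c => ?_⟩
    have h1 : (c • φ) w = 0 := by rw [LinearMap.smul_apply, h0, smul_zero]
    refine ⟨LinearEquiv.transvection h1, hon _ ?_ ?_ ?_, fun x => ?_⟩
    · change LinearMap.det ((LinearEquiv.transvection h1 : V ≃ₗ[F] V) : V →ₗ[F] V) = 1
      rw [← LinearEquiv.coe_det, LinearEquiv.transvection.det_eq_one h1, Units.val_one]
    · intro v hv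
      rw [LinearEquiv.transvection.apply]
      exact W.add_mem hv (W.smul_mem _ hw)
    · intro u hu
      rw [LinearEquiv.transvection.apply, LinearMap.smul_apply, hU u hu, smul_zero, zero_smul, add_zero]
    · rw [LinearEquiv.transvection.apply, LinearMap.smul_apply, smul_eq_mul]
  have : FiniteDimensional F W := inferInstance
  let b : Basis (Fin 2) F W := finBasisOfFinrankEq F W hW
  let π : V →ₗ[F] W := W.projectionOnto U hc
  have hπW : ∀ w : W, π w = w := fun w => Submodule.projectionOnto_apply_left hc w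
  have hπU : ∀ u ∈ U, π u = 0 := fun u hu => (Submodule.projectionOnto_apply_eq_zero_iff hc).2 hu
  have hTi : ∀ i j : Fin 2, i ≠ j → Tv H (b i : V) (b.coord j ∘ₗ π) := by
    intro i j hij
    refine hT _ _ (b i).2 (fun u hu => ?_) ?_
    · rw [LinearMap.comp_apply, hπU u hu, map_zero]
    · rw [LinearMap.comp_apply, hπW, Basis.coord_apply, Basis.repr_self, Finsupp.single_eq_of_ne hij.symm]
  have hval : ∀ i : Fin 2, (b.coord i ∘ₗ π) (b i : V) = 1 := by
    intro i
    rw [LinearMap.comp_apply, hπW, Basis.coord_apply, Basis.repr_self, Finsupp.single_eq_same]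
  have hrel : Rel H (b 0 : V) (b 1 : V) :=
    ⟨_, _, hTi 0 1 (by decide), hTi 1 0 (by decide), by rw [hval]; exact one_ne_zero,
      by rw [hval]; exact one_ne_zero⟩
  have ha : Ctr H (b 0 : V) := ⟨_, hrel⟩
  have hWle : W ≤ Wcp H (b 0 : V) := by
    have h1 : ∀ i : Fin 2, (b i : V) ∈ Wcp H (b 0 : V) := by
      intro i
      fin_cases i
      · exact Submodule.subset_span (Cmp.refl _)
      · exact Submodule.subset_span hrel.cmp
    intro w hw
    have h2 := b.sum_repr ⟨w, hw⟩
    have h3 : (∑ i, b.repr ⟨w, hw⟩ i • (b i : V)) = w := by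
      have h4 := congrArg Subtype.val h2
      rw [AddSubmonoidClass.coe_finsetSum] at h4
      exact h4
    rw [← h3]
    exact Submodule.sum_mem _ fun i _ => Submodule.smul_mem _ _ (h1 i)
  have h2 : 2 ≤ finrank F (Wcp H (b 0 : V)) := le_of_eq_of_le hW.symm (Submodule.finrank_mono hWle)
  by_cases htop : Wcp H (b 0 : V) = ⊤
  · by_cases hm : 2 ≤ finrank F (Phi (full H) (b 0 : V))
    · left
      refine sl_of_two hI ha hm htop ?_
      rw [htop, finrank_top] at h2
      exact h2
    · right; right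
      refine sp_of_one hI ha ?_ htop
      have h3 : 1 ≤ finrank F (Phi (full H) (b 0 : V)) := by
        rw [Submodule.one_le_finrank_iff]
        intro h0
        have h5 : b.coord 1 ∘ₗ π ∈ Phi (full H) (b 0 : V) := hTi 0 1 (by decide)
        rw [h0, Submodule.mem_bot] at h5
        have h4 := hval 1
        rw [h5] at h4
        exact zero_ne_one h4
      omega
  · right; left
    exact ⟨_, blk hI ha htop, h2⟩

end Cfsg.Agent.H806.Bs
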