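import Mathlib

/-!
# Full transvection groups: basic calculus (helper806, a variant of `H743/Tv.lean`)

This is the theory of `H743/Tv*.lean` (McLaughlin) with the relation
`Tv H a φ`: `φ a = 0` and **all** transvections `x ↦ x + c φ x • a`, `c ∈ K`, lie in `H ≤ GL(V)`;
so `Full H` (multiples) holds for every `H`, and `Phi H a`, the set of all `φ` with `Tv H a φ`, is a subspace of
the dual.
`Cmp H a b`: `a`, `b` lie in the same component of the graph of centres, where `a` and `b` are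
joined if `φ b ≠ 0 ≠ ψ a` for some `φ ∈ Phi a`, `ψ ∈ Phi b`.
-/

set_option autoImplicit false
set_option linter.unusedVariables false
set_option linter.unusedSimpArgs false
set_option linter.unusedSectionVars false

namespace Cfsg.Agent.H806.Bs.McL

open Module

variable {K V : Type*} [Field K] [AddCommGroup V] [Module K V]

/-- All transvections `x ↦ x + c φ x • a` (with `φ a = 0`) belong to `H`. -/
def Tv (H : Subgroup (V ≃ₗ[K] V)) (a : V) (φ : Dual K V) : Prop :=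
  φ a = 0 ∧ ∀ c : K, ∃ t ∈ H, ∀ x, t x = x + (c * φ x) • a

variable {H : Subgroup (V ≃ₗ[K] V)}

theorem Tv.apply_self {a : V} {φ : Dual K V} (h : Tv H a φ) : φ a = 0 := h.1

theorem Tv.elt {a : V} {φ : Dual K V} (h : Tv H a φ) : φ a = 0 ∧ ∃ t ∈ H, ∀ x, t x = x + φ x • a := by
  obtain ⟨t, ht, h1⟩ := h.2 1
  exact ⟨h.1, t, ht, fun x => by rw [h1, one_mul]⟩

theorem tv_zero_left (φ : Dual K V) : Tv H 0 φ :=
  ⟨map_zero φ, fun c => ⟨1, H.one_mem, fun x => by simp⟩⟩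

theorem tv_zero_right (a : V) : Tv H a (0 : Dual K V) :=
  ⟨rfl, fun c => ⟨1, H.one_mem, fun x => by simp⟩⟩

theorem Tv.add_right {a : V} {φ ψ : Dual K V} (h : Tv H a φ) (h' : Tv H a ψ) : Tv H a (φ + ψ) := by
  refine ⟨by simp [h.1, h'.1], fun c => ?_⟩
  obtain ⟨h1, h0⟩ := h
  obtain ⟨h3, h0'⟩ := h'
  obtain ⟨t, ht, h2⟩ := h0 c
  obtain ⟨s, hs, h4⟩ := h0' c
  refine ⟨t * s, H.mul_mem ht hs, fun x => ?_⟩
  change t (s x) = _
  rw [h4, h2]
  simp only [map_add, map_smul, h1, smul_zero, add_zero, LinearMap.add_apply, mul_add, add_smul]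
  abel

theorem Tv.add_left {a b : V} {φ : Dual K V} (h : Tv H a φ) (h' : Tv H b φ) : Tv H (a + b) φ := by
  refine ⟨by simp [h.1, h'.1], fun c => ?_⟩
  obtain ⟨h1, h0⟩ := h
  obtain ⟨h3, h0'⟩ := h'
  obtain ⟨t, ht, h2⟩ := h0 c
  obtain ⟨s, hs, h4⟩ := h0' c
  refine ⟨t * s, H.mul_mem ht hs, fun x => ?_⟩
  change t (s x) = _
  rw [h4, h2]
  simp only [map_add, map_smul, h3, smul_zero, add_zero, smul_add]
  abel

theorem Tv.neg_right {a : V} {φ : Dual K V} (h : Tv H a φ) : Tv H a (-φ) := by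
  refine ⟨by simp [h.1], fun c => ?_⟩
  obtain ⟨t, ht, h2⟩ := h.2 (-c)
  exact ⟨t, ht, fun x => by rw [h2]; simp⟩

theorem Tv.smul_left {a : V} {φ : Dual K V} {c : K} (h : Tv H a (c • φ)) : Tv H (c • a) φ := by
  refine ⟨by simpa using h.1, fun d => ?_⟩
  obtain ⟨t, ht, h2⟩ := h.2 d
  refine ⟨t, ht, fun x => ?_⟩
  rw [h2, LinearMap.smul_apply, smul_eq_mul, smul_smul]
  congr 2
  ring

theorem Tv.of_smul_left {a : V} {φ : Dual K V} {c : K} (hc : c ≠ 0) (h : Tv H (c • a) φ) :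
    Tv H a (c • φ) := by
  refine ⟨by simpa [hc] using h.1, fun d => ?_⟩
  obtain ⟨t, ht, h2⟩ := h.2 d
  refine ⟨t, ht, fun x => ?_⟩
  rw [h2, LinearMap.smul_apply, smul_eq_mul, smul_smul]
  congr 2
  ring

theorem Tv.conj' {a : V} {φ : Dual K V} (h : Tv H a φ) {g : V ≃ₗ[K] V}
    (hg : ∀ t ∈ H, g * t * g⁻¹ ∈ H) : Tv H (g a) (φ ∘ₗ (g.symm : V →ₗ[K] V)) := by
  refine ⟨by simp [h.1], fun c => ?_⟩
  obtain ⟨t, ht, h2⟩ := h.2 c
  refine ⟨g * t * g⁻¹, hg t ht, fun x => ?_⟩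
  change g (t (g.symm x)) = _
  rw [h2]
  simp

theorem Tv.conj {a : V} {φ : Dual K V} (h : Tv H a φ) {g : V ≃ₗ[K] V} (hg : g ∈ H) :
    Tv H (g a) (φ ∘ₗ (g.symm : V →ₗ[K] V)) :=
  h.conj' fun t ht => H.mul_mem (H.mul_mem hg ht) (H.inv_mem hg)

/-- All scalar multiples of transvections of `H` are in `H`. -/
def Full (H : Subgroup (V ≃ₗ[K] V)) : Prop := ∀ a φ (c : K), Tv H a φ → Tv H a (c • φ)

theorem full (H : Subgroup (V ≃ₗ[K] V)) : Full H := by
  intro a φ c h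
  refine ⟨by simp [h.1], fun d => ?_⟩
  obtain ⟨t, ht, h2⟩ := h.2 (d * c)
  refine ⟨t, ht, fun x => ?_⟩
  rw [h2, LinearMap.smul_apply, smul_eq_mul, mul_assoc]

theorem Full.smul_left (hF : Full H) {a : V} {φ : Dual K V} (c : K) (h : Tv H a φ) :
    Tv H (c • a) φ := (hF a φ c h).smul_left

theorem Full.sub_left (hF : Full H) {a b : V} {φ : Dual K V} (h : Tv H a φ) (h' : Tv H b φ) :
    Tv H (a - b) φ := by
  have := h.add_left (hF.smul_left (-1) h')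
  rwa [neg_one_smul, ← sub_eq_add_neg] at this

/-- Conjugation of `b ⊗ ψ` by the transvection `c • (a ⊗ φ)`. -/
theorem Full.conj_tv (hF : Full H) {a b : V} {φ ψ : Dual K V} (h : Tv H a φ) (h' : Tv H b ψ) (c : K) :
    Tv H (b + (c * φ b) • a) (ψ - (c * ψ a) • φ) := by
  obtain ⟨h1, t, ht, h2⟩ := (hF a φ c h).elt
  have hs : ∀ x, t.symm x = x - (c * φ x) • a := by
    intro x
    rw [LinearEquiv.symm_apply_eq, h2]
    have h1' : c * φ a = 0 := by simpa using h1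
    simp only [LinearMap.smul_apply, smul_eq_mul, map_sub, map_smul, sub_smul]
    rw [h1']
    simp
  have h3 := h'.conj ht
  rw [h2] at h3
  have h4 : (ψ ∘ₗ (t.symm : V →ₗ[K] V)) = ψ - (c * ψ a) • φ := by
    ext x
    simp only [LinearMap.sub_apply, LinearMap.smul_apply, smul_eq_mul, LinearMap.comp_apply,
      LinearEquiv.coe_coe, hs, map_sub, map_smul]
    ring
  rw [h4] at h3
  exact h3

/-- Key lemma: if `φ b ≠ 0` and `ψ a = 0` then `a ⊗ ψ` is in `H` as well. -/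
theorem Full.key (hF : Full H) {a b : V} {φ ψ : Dual K V} (h : Tv H a φ) (h' : Tv H b ψ)
    (hφ : φ b ≠ 0) (hψ : ψ a = 0) : Tv H a ψ := by
  have h3 := hF.conj_tv h h' (φ b)⁻¹
  rw [hψ, mul_zero, zero_smul, sub_zero, inv_mul_cancel₀ hφ, one_smul] at h3
  have := hF.sub_left h3 h'
  rwa [add_sub_cancel_left] at this

theorem Full.sub_smul_right (hF : Full H) {a : V} {φ ψ : Dual K V} (h : Tv H a φ) (h' : Tv H a ψ)
    (c : K) : Tv H a (φ - c • ψ) := by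
  have h1 := Tv.add_right h (hF _ _ (-c) h')
  have h2 : φ + (-c) • ψ = φ - c • ψ := by module
  rwa [h2] at h1

/-- `Phi a`: the functionals `φ` with `a ⊗ φ` in `H`. -/
def Phi (hF : Full H) (a : V) : Submodule K (Dual K V) where
  carrier := {φ | Tv H a φ}
  add_mem' h h' := h.add_right h'
  zero_mem' := tv_zero_right a
  smul_mem' c _ h := hF _ _ c h

theorem mem_Phi (hF : Full H) {a : V} {φ : Dual K V} : φ ∈ Phi hF a ↔ Tv H a φ := Iff.rfl

/-- Adjacency of centres. -/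
def Rel (H : Subgroup (V ≃ₗ[K] V)) (a b : V) : Prop :=
  ∃ φ ψ : Dual K V, Tv H a φ ∧ Tv H b ψ ∧ φ b ≠ 0 ∧ ψ a ≠ 0

theorem Rel.symm {a b : V} (h : Rel H a b) : Rel H b a := by
  obtain ⟨φ, ψ, h1, h2, h3, h4⟩ := h
  exact ⟨ψ, φ, h2, h1, h4, h3⟩

/-- Same component. -/
def Cmp (H : Subgroup (V ≃ₗ[K] V)) (a b : V) : Prop := Relation.ReflTransGen (Rel H) a b

theorem Cmp.refl (a : V) : Cmp H a a := Relation.ReflTransGen.refl

theorem Cmp.trans {a b c : V} (h : Cmp H a b) (h' : Cmp H b c) : Cmp H a c :=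
  Relation.ReflTransGen.trans h h'

theorem Cmp.symm {a b : V} (h : Cmp H a b) : Cmp H b a := by
  induction h with
  | refl => exact Cmp.refl a
  | tail _ h2 ih => exact (Relation.ReflTransGen.single h2.symm).trans ih

theorem Rel.cmp {a b : V} (h : Rel H a b) : Cmp H a b := Relation.ReflTransGen.single h

/-- In the graph every centre is joined to another one. -/
def NI (H : Subgroup (V ≃ₗ[K] V)) : Prop :=
  ∀ a φ, Tv H a φ → a ≠ 0 → φ ≠ 0 → ∃ b ψ, Tv H b ψ ∧ φ b ≠ 0 ∧ ψ a ≠ 0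

/-- Adjacent centres are conjugate. -/
theorem Rel.exists_map (hF : Full H) {a b : V} (h : Rel H a b) : ∃ g ∈ H, g b = a := by
  obtain ⟨φ, ψ, h1, h2, h3, h4⟩ := h
  obtain ⟨-, t, ht, h5⟩ := (hF a φ (φ b)⁻¹ h1).elt
  obtain ⟨-, s, hs, h6⟩ := (hF b ψ (-(ψ a)⁻¹) h2).elt
  refine ⟨s * t, H.mul_mem hs ht, ?_⟩
  change s (t b) = a
  rw [h5, h6]
  simp [h3, h4, h2.1]

theorem Cmp.exists_map (hF : Full H) {a b : V} (h : Cmp H a b) : ∃ g ∈ H, g b = a := by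
  induction h with
  | refl => exact ⟨1, H.one_mem, rfl⟩
  | tail _ h2 ih =>
    obtain ⟨g, hg, h3⟩ := ih
    obtain ⟨g', hg', h4⟩ := h2.exists_map hF
    refine ⟨g * g', H.mul_mem hg hg', ?_⟩
    change g (g' _) = _
    rw [h4, h3]

theorem Phi_map (hF : Full H) {g : V ≃ₗ[K] V} (hg : g ∈ H) (a : V) :
    Phi hF (g a) = (Phi hF a).map (g.symm.dualMap : Dual K V →ₗ[K] Dual K V) := by
  ext φ
  constructor
  · intro h
    refine ⟨φ ∘ₗ (g : V →ₗ[K] V), ?_, ?_⟩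
    · have := Tv.conj (h : Tv H (g a) φ) (H.inv_mem hg)
      have h2 : (g⁻¹ : V ≃ₗ[K] V) (g a) = a := g.symm_apply_apply a
      rw [h2] at this
      exact this
    · ext x
      simp
  · rintro ⟨ψ, h1, rfl⟩
    exact Tv.conj (h1 : Tv H a ψ) hg

theorem Cmp.finrank_eq (hF : Full H) {a b : V} (h : Cmp H a b) :
    finrank K (Phi hF a) = finrank K (Phi hF b) := by
  obtain ⟨g, hg, rfl⟩ := h.exists_map hF
  rw [Phi_map hF hg]
  exact LinearEquiv.finrank_map_eq g.symm.dualMap _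

/-- Non-orthogonality of centres. -/
def NP (H : Subgroup (V ≃ₗ[K] V)) (a b : V) : Prop := ∃ φ : Dual K V, Tv H a φ ∧ φ b ≠ 0

theorem Rel.np {a b : V} (h : Rel H a b) : NP H a b := by
  obtain ⟨φ, ψ, h1, h2, h3, h4⟩ := h
  exact ⟨φ, h1, h3⟩

theorem NP.ne_zero {a b : V} (h : NP H a b) : b ≠ 0 := by
  rintro rfl
  obtain ⟨φ, h1, h3⟩ := h
  exact h3 (map_zero φ)

section FD
variable [FiniteDimensional K V]

theorem Cmp.np_symm (hF : Full H) {a b : V} (h : Cmp H a b) (hn : NP H a b) : NP H b a := by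
  by_contra hcon
  have h0 : ∀ ψ : Dual K V, Tv H b ψ → ψ a = 0 := by
    intro ψ hψ
    by_contra h1
    exact hcon ⟨ψ, hψ, h1⟩
  obtain ⟨φ, h1, h2⟩ := hn
  have hle : Phi hF b ≤ Phi hF a := fun ψ hψ => hF.key h1 hψ h2 (h0 ψ hψ)
  have heq : Phi hF b = Phi hF a := Submodule.eq_of_le_of_finrank_eq hle (h.symm.finrank_eq hF)
  have h3 : φ ∈ Phi hF b := by rw [heq]; exact h1
  exact h2 (h3 : Tv H b φ).1

theorem Cmp.rel_of_np (hF : Full H) {a b : V} (h : Cmp H a b) (hn : NP H a b) : Rel H a b := by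
  obtain ⟨ψ, h3, h4⟩ := h.np_symm hF hn
  obtain ⟨φ, h1, h2⟩ := hn
  exact ⟨φ, ψ, h1, h3, h2, h4⟩

/-- Two centres with a common functional are in the same component. -/
theorem cmp_of_common (hN : NI H) {a b : V} {ψ : Dual K V} (hψ : ψ ≠ 0) (ha : a ≠ 0) (hb : b ≠ 0)
    (h1 : Tv H a ψ) (h2 : Tv H b ψ) : Cmp H a b := by
  obtain ⟨c, χ, h3, h4, h5⟩ := hN a ψ h1 ha hψ
  obtain ⟨c', χ', h3', h4', h5'⟩ := hN b ψ h2 hb hψ
  have r1 : Rel H a c := ⟨ψ, χ, h1, h3, h4, h5⟩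
  have r2 : Rel H b c' := ⟨ψ, χ', h2, h3', h4', h5'⟩
  by_cases e1 : χ b = 0
  · by_cases e2 : χ' a = 0
    · have h6 : Tv H (a + b) ψ := h1.add_left h2
      have r3 : Rel H (a + b) c := ⟨ψ, χ, h6, h3, h4, by simpa [e1] using h5⟩
      have r4 : Rel H (a + b) c' := ⟨ψ, χ', h6, h3', h4', by simpa [e2] using h5'⟩
      exact (r1.cmp.trans r3.symm.cmp).trans (r4.cmp.trans r2.symm.cmp)
    · have r3 : Rel H a c' := ⟨ψ, χ', h1, h3', h4', e2⟩
      exact r3.cmp.trans r2.symm.cmp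
  · have r3 : Rel H b c := ⟨ψ, χ, h2, h3, h4, e1⟩
    exact r1.cmp.trans r3.symm.cmp

/-- Centres of different components are orthogonal. -/
theorem cmp_of_np (hF : Full H) (hN : NI H) {a b : V} {ψ : Dual K V} (ha : a ≠ 0)
    (hb : Tv H b ψ) (hψ : ψ ≠ 0) (hn : NP H a b) : Cmp H a b := by
  by_cases hr : NP H b a
  · obtain ⟨χ, h3, h4⟩ := hr
    obtain ⟨φ, h1, h2⟩ := hn
    exact Rel.cmp ⟨φ, χ, h1, h3, h2, h4⟩
  · have h0 : ψ a = 0 := by
      by_contra h1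
      exact hr ⟨ψ, hb, h1⟩
    obtain ⟨φ, h1, h2⟩ := id hn
    have h3 : Tv H a ψ := hF.key h1 hb h2 h0
    exact cmp_of_common hN hψ ha hn.ne_zero h3 hb

end FD

end Cfsg.Agent.H806.Bs.McL
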