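import Cfsg.Agent.H806.Bs.TvSL

/-!
# Components of transvection groups: the symplectic case

A component in which `Phi a` has dimension one: the functionals can be normalised such that they
form a skew-symmetric family `f`.
-/

set_option autoImplicit false
set_option linter.unusedVariables false
set_option linter.unusedSimpArgs false
set_option linter.unusedSectionVars false

namespace Cfsg.Agent.H806.Bs.McL

open Module

variable {K V : Type*} [Field K] [AddCommGroup V] [Module K V] {H : Subgroup (V ≃ₗ[K] V)}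

theorem bad_eq {u v l m : K} (hlm : l ≠ m) (h1 : u + l * v = 0) (h2 : u + m * v = 0) :
    u = 0 ∧ v = 0 := by
  have h3 : (l - m) * v = 0 := by linear_combination h1 - h2
  rcases mul_eq_zero.1 h3 with h | h
  · exact absurd (sub_eq_zero.1 h) hlm
  · subst h
    simp at h1
    exact ⟨h1, rfl⟩

/-- Avoiding two values in a field with at least three elements. -/
theorem exists_avoid {c : K} (hc0 : c ≠ 0) (hc1 : c ≠ 1) {u v u' v' : K} (h : u ≠ 0 ∨ v ≠ 0)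
    (h' : u' ≠ 0 ∨ v' ≠ 0) : ∃ l : K, u + l * v ≠ 0 ∧ u' + l * v' ≠ 0 := by
  have key : ∀ l m : K, l ≠ m → ¬ (u + l * v = 0 ∧ u + m * v = 0) := by
    rintro l m hlm ⟨h1, h2⟩
    obtain ⟨h3, h4⟩ := bad_eq hlm h1 h2
    rcases h with h | h
    · exact h h3
    · exact h h4
  have key' : ∀ l m : K, l ≠ m → ¬ (u' + l * v' = 0 ∧ u' + m * v' = 0) := by
    rintro l m hlm ⟨h1, h2⟩
    obtain ⟨h3, h4⟩ := bad_eq hlm h1 h2
    rcases h' with h | h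
    · exact h h3
    · exact h h4
  by_contra hcon
  push Not at hcon
  have d : ∀ l : K, u + l * v = 0 ∨ u' + l * v' = 0 := by
    intro l
    by_cases e : u + l * v = 0
    · exact Or.inl e
    · exact Or.inr (hcon l e)
  have n01 : (0 : K) ≠ 1 := zero_ne_one
  rcases d 0 with e0 | e0 <;> rcases d 1 with e1 | e1 <;> rcases d c with e2 | e2
  · exact key 0 1 n01 ⟨e0, e1⟩
  · exact key 0 1 n01 ⟨e0, e1⟩
  · exact key 0 c hc0.symm ⟨e0, e2⟩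
  · exact key' 1 c hc1.symm ⟨e1, e2⟩
  · exact key 1 c hc1.symm ⟨e1, e2⟩
  · exact key' 0 c hc0.symm ⟨e0, e2⟩
  · exact key' 0 1 n01 ⟨e0, e1⟩
  · exact key' 0 1 n01 ⟨e0, e1⟩

section FD
variable [FiniteDimensional K V]

/-- The standing hypotheses of the symplectic case. -/
structure SpH (hF : Full H) (a₀ : V) : Prop where
  ctr : Ctr H a₀
  one : finrank K (Phi hF a₀) = 1
  big : ∃ c : K, c ≠ 0 ∧ c ≠ 1

variable {hF : Full H} {a₀ : V}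

theorem SpH.eq_smul (h : SpH hF a₀) {x : V} (hx : Cmp H a₀ x) {φ ψ : Dual K V} (h1 : Tv H x φ)
    (h2 : φ ≠ 0) (h3 : Tv H x ψ) : ∃ μ : K, ψ = μ • φ := by
  have h4 : finrank K (Phi hF x) = 1 := by rw [← hx.finrank_eq hF, h.one]
  obtain ⟨μ, hμ⟩ := (finrank_eq_one_iff_of_nonzero' (⟨φ, h1⟩ : Phi hF x)
    (fun h0 => h2 (congrArg Subtype.val h0))).1 h4 ⟨ψ, h3⟩
  exact ⟨μ, (congrArg Subtype.val hμ).symm⟩

theorem SpH.np (h : SpH hF a₀) {x y : V} (hx : Cmp H a₀ x) {φ : Dual K V} (h1 : Tv H x φ)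
    (h2 : φ ≠ 0) (hn : NP H x y) : φ y ≠ 0 := by
  obtain ⟨ψ, k1, k2⟩ := hn
  obtain ⟨μ, rfl⟩ := h.eq_smul hx h1 h2 k1
  intro h0
  exact k2 (by simp [h0])

theorem SpH.symm (h : SpH hF a₀) {x y : V} (hx : Cmp H a₀ x) (hy : Cmp H a₀ y) {φ ψ : Dual K V}
    (h1 : Tv H x φ) (h2 : Tv H y ψ) (h3 : ψ ≠ 0) (h4 : φ y ≠ 0) : ψ x ≠ 0 :=
  h.np hy h2 h3 ((hx.symm.trans hy).np_symm hF ⟨φ, h1, h4⟩)

theorem ne_zero_of_apply {φ : Dual K V} {x : V} (h : φ x ≠ 0) : φ ≠ 0 := by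
  rintro rfl
  exact h rfl

/-- Moving along a line. -/
theorem SpH.tv_line (h : SpH hF a₀) {x y : V} {ξ η : Dual K V} (h1 : Tv H x ξ) (h2 : Tv H y η)
    (h3 : ξ y = - η x) (h4 : ξ y ≠ 0) (l : K) : Tv H (y + l • x) (η + l • ξ) := by
  have h5 := hF.conj_tv h1 h2 (l * (ξ y)⁻¹)
  rw [show l * (ξ y)⁻¹ * ξ y = l by field_simp] at h5
  have h6 : l * (ξ y)⁻¹ * η x = -l := by
    have : η x = - ξ y := by rw [h3, neg_neg]
    rw [this]
    field_simp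
  rw [h6] at h5
  have h7 : η - (-l) • ξ = η + l • ξ := by module
  rwa [h7] at h5

theorem rel_of {x y : V} {ξ η : Dual K V} (h1 : Tv H x ξ) (h2 : Tv H y η)
    (h3 : ξ y = - η x) (h4 : ξ y ≠ 0) : Rel H x y :=
  ⟨ξ, η, h1, h2, h4, fun h0 => h4 (by rw [h3, h0, neg_zero])⟩

/-- The triangle lemma. -/
theorem SpH.tri (h : SpH hF a₀) {x y z : V} {ξ η ζ : Dual K V} (hx : Cmp H a₀ x)
    (h1 : Tv H x ξ) (h2 : Tv H y η) (h3 : Tv H z ζ) (h4 : ξ y = - η x) (h5 : ξ y ≠ 0)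
    (h6 : ξ z = - ζ x) (h7 : ξ z ≠ 0) : η z = - ζ y := by
  have hζx : ζ x ≠ 0 := fun h0 => h7 (by rw [h6, h0, neg_zero])
  have hxy := rel_of h1 h2 h4 h5
  have hxz := rel_of h1 h3 h6 h7
  set l := ζ y * (ζ x)⁻¹ with hl
  have k1 := h.tv_line h1 h2 h4 h5 (-l)
  have k2 : Rel H x (y + (-l) • x) := hxy.line hF (-l)
  have k3 : ζ (y + (-l) • x) = 0 := by
    rw [map_add, map_smul, smul_eq_mul, hl]
    field_simp
    ring
  have k4 : (η + (-l) • ξ) z = 0 := by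
    by_contra h0
    have hz : Cmp H a₀ z := hx.trans hxz.cmp
    have hw : Cmp H a₀ (y + (-l) • x) := hx.trans k2.cmp
    exact h.symm hw hz k1 h3 (ne_zero_of_apply hζx) h0 k3
  simp only [LinearMap.add_apply, LinearMap.smul_apply, smul_eq_mul] at k4
  rw [h6, hl] at k4
  have : ζ y * (ζ x)⁻¹ * ζ x = ζ y := by field_simp
  linear_combination k4 + (-1) * this

theorem SpH.normalise (h : SpH hF a₀) {φ₀ : Dual K V} (h0 : Tv H a₀ φ₀) {x : V} (hx : Cmp H a₀ x)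
    (h1 : φ₀ x ≠ 0) : ∃ ξ, Tv H x ξ ∧ ξ a₀ = - φ₀ x := by
  obtain ⟨ξ, k1, k2⟩ := hx.np_symm hF ⟨φ₀, h0, h1⟩
  refine ⟨(-(φ₀ x) * (ξ a₀)⁻¹) • ξ, hF _ _ _ k1, ?_⟩
  rw [LinearMap.smul_apply, smul_eq_mul]
  field_simp

/-- Normalised functionals, relative to `φ₀ ∈ Phi a₀`. -/
def PP (H : Subgroup (V ≃ₗ[K] V)) (a₀ : V) (φ₀ : Dual K V) (c : V) (χ : Dual K V) : Prop :=
  Tv H c χ ∧ ∃ b β, Cmp H a₀ b ∧ Tv H b β ∧ φ₀ b = - β a₀ ∧ φ₀ b ≠ 0 ∧ β c = - χ b ∧ β c ≠ 0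

theorem SpH.exists_PP (h : SpH hF a₀) {φ₀ : Dual K V} (h0 : Tv H a₀ φ₀) (h0' : φ₀ ≠ 0) {c : V}
    (hc : Cmp H a₀ c) : ∃ χ, PP H a₀ φ₀ c χ := by
  obtain ⟨b, h1, h2⟩ := h.ctr.exists_mid hF hc
  have k1 : φ₀ b ≠ 0 := h.np (Cmp.refl a₀) h0 h0' h1.np
  obtain ⟨β, k2, k3⟩ := h.normalise h0 h1.cmp k1
  have k3' : β a₀ ≠ 0 := by rw [k3]; exact neg_ne_zero.2 k1
  have k4 : β c ≠ 0 := h.np h1.cmp k2 (ne_zero_of_apply k3') h2.np
  obtain ⟨χ, k5, k6⟩ := h2.symm.np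
  refine ⟨(-(β c) * (χ b)⁻¹) • χ, hF _ _ _ k5, b, β, h1.cmp, k2, by rw [k3, neg_neg], k1, ?_, k4⟩
  rw [LinearMap.smul_apply, smul_eq_mul]
  field_simp

theorem SpH.PP_unique (h : SpH hF a₀) {φ₀ : Dual K V} (h0 : Tv H a₀ φ₀) {c : V} {χ : Dual K V}
    (hc : Cmp H a₀ c) (hχ : PP H a₀ φ₀ c χ) {b' : V} {β' : Dual K V} (hb' : Cmp H a₀ b')
    (h1' : Tv H b' β') (h2' : φ₀ b' = - β' a₀) (h3' : φ₀ b' ≠ 0) : β' c = - χ b' := by
  obtain ⟨c₀, hc0, hc1⟩ := h.big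
  obtain ⟨g1, b, β, hb, g2, g3, g4, g5, g6⟩ := hχ
  have hβa : β a₀ ≠ 0 := fun e => g4 (by rw [g3, e, neg_zero])
  have hβ'a : β' a₀ ≠ 0 := fun e => h3' (by rw [h2', e, neg_zero])
  have hχb : χ b ≠ 0 := fun e => g6 (by rw [g5, e, neg_zero])
  have k1 : φ₀ c = - χ a₀ := h.tri hb g2 h0 g1 (by rw [g3, neg_neg]) hβa g5 g6
  have k2 : β b' = - β' b := h.tri (Cmp.refl a₀) h0 g2 h1' g3 g4 h2' h3'
  obtain ⟨l, m1, m2⟩ := exists_avoid hc0 hc1 (u := β' b) (v := β' a₀) (u' := χ b) (v' := χ a₀)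
    (Or.inr hβ'a) (Or.inl hχb)
  have k3 := h.tv_line h0 g2 g3 g4 l
  have k4 : Cmp H a₀ (b + l • a₀) := ((rel_of h0 g2 g3 g4).line hF l).cmp
  have k5 : (β + l • φ₀) b' = - β' (b + l • a₀) := by
    simp only [LinearMap.add_apply, LinearMap.smul_apply, smul_eq_mul, map_add, map_smul]
    rw [k2, h2']
    ring
  have k6 : (β + l • φ₀) c = - χ (b + l • a₀) := by
    simp only [LinearMap.add_apply, LinearMap.smul_apply, smul_eq_mul, map_add, map_smul]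
    rw [g5, k1]
    ring
  refine h.tri k4 k3 h1' g1 k5 ?_ k6 ?_
  · rw [k5, map_add, map_smul, smul_eq_mul]
    exact neg_ne_zero.2 m1
  · rw [k6, map_add, map_smul, smul_eq_mul]
    exact neg_ne_zero.2 m2

/-- A skew-symmetric normalisation of the functionals. -/
theorem SpH.exists_form (h : SpH hF a₀) : ∃ f : V → Dual K V,
    (∀ x, Cmp H a₀ x → Tv H x (f x) ∧ f x ≠ 0) ∧
    ∀ x y, Cmp H a₀ x → Cmp H a₀ y → f x y = - f y x := by
  obtain ⟨c₀, hc0, hc1⟩ := h.big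
  obtain ⟨b₀, hb⟩ := id h.ctr
  obtain ⟨φ₀, h0, h0b⟩ := hb.np
  have h0' := ne_zero_of_apply h0b
  have hP : ∀ c, ∃ χ, Cmp H a₀ c → PP H a₀ φ₀ c χ := by
    intro c
    by_cases hc : Cmp H a₀ c
    · obtain ⟨χ, hχ⟩ := h.exists_PP h0 h0' hc
      exact ⟨χ, fun _ => hχ⟩
    · exact ⟨0, fun h => absurd h hc⟩
  choose f hf using hP
  have hf1 : ∀ x, Cmp H a₀ x → Tv H x (f x) := fun x hx => (hf x hx).1
  have hf2 : ∀ x, Cmp H a₀ x → f x ≠ 0 := by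
    intro x hx
    obtain ⟨_, b, β, _, _, _, _, g5, g6⟩ := hf x hx
    exact ne_zero_of_apply (x := b) fun e => g6 (by rw [g5, e, neg_zero])
  refine ⟨f, fun x hx => ⟨hf1 x hx, hf2 x hx⟩, ?_⟩
  have main : ∀ b c, Cmp H a₀ b → Cmp H a₀ c → f b c ≠ 0 → f b c = - f c b := by
    intro b c hb hc hbc
    have hcb : f c b ≠ 0 := h.symm hb hc (hf1 b hb) (hf1 c hc) (hf2 c hc) hbc
    obtain ⟨x, h1, h2⟩ := h.ctr.exists_mid hF hb
    have k1 : φ₀ x ≠ 0 := h.np (Cmp.refl a₀) h0 h0' h1.np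
    obtain ⟨l, m1, m2⟩ := exists_avoid hc0 hc1 (u := φ₀ x) (v := φ₀ b) (u' := f c x) (v' := f c b)
      (Or.inl k1) (Or.inr hcb)
    have k2 : Rel H b (x + l • b) := h2.symm.line hF l
    have k3 : Cmp H a₀ (x + l • b) := hb.trans k2.cmp
    have k4 : φ₀ (x + l • b) ≠ 0 := by rwa [map_add, map_smul, smul_eq_mul]
    obtain ⟨ξ, k5, k6⟩ := h.normalise h0 k3 k4
    have k6' : φ₀ (x + l • b) = - ξ a₀ := by rw [k6, neg_neg]
    have k7 := h.PP_unique h0 hb (hf b hb) k3 k5 k6' k4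
    have k8 := h.PP_unique h0 hc (hf c hc) k3 k5 k6' k4
    refine h.tri k3 k5 (hf1 b hb) (hf1 c hc) k7 ?_ k8 ?_
    · rw [k7]
      refine neg_ne_zero.2 ?_
      rw [map_add, map_smul, (hf1 b hb).1, smul_zero, add_zero]
      exact h.np hb (hf1 b hb) (hf2 b hb) h2.symm.np
    · rw [k8]
      refine neg_ne_zero.2 ?_
      rwa [map_add, map_smul, smul_eq_mul]
  intro b c hb hc
  by_cases e : f b c = 0
  · by_cases e' : f c b = 0
    · rw [e, e', neg_zero]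
    · exact absurd e (h.symm hc hb (hf1 c hc) (hf1 b hb) (hf2 b hb) e')
  · exact main b c hb hc e

end FD

end Cfsg.Agent.H806.Bs.McL
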